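import Groth.Agent.Sga4h.GeoDim3
import Groth.Agent.HilbD.K221.FldPt
import Groth.Agent.ValPrufer.K832.DimSub

/-!
# Dimension of a subset covered by finitely many images

`topDim`: `H` an arbitrary scheme over a field `k`, `T ⊆ H` covered by the images of finitely many
`k`-schemes of finite type of dimension at most `n`; then `dim T ≤ n`.
-/

set_option autoImplicit false
set_option backward.isDefEq.respectTransparency false
universe u
open CategoryTheory CategoryTheory.Limits AlgebraicGeometry TopologicalSpace Opposite

namespace K484.TopDim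

open Groth.Agent.Sga4h.GeoDim Groth.Agent.CycB.TrdegAlg

/-- A chain of primes in a domain over a field. -/
theorem chain_le {k : Type u} {D : Type u} [Field k] [CommRing D] [IsDomain D] [Algebra k D] (d : ℕ)
    (hd : Algebra.trdeg k D ≤ d) (m : ℕ) (P : Fin (m + 1) → PrimeSpectrum D)
    (hlt : ∀ i : Fin m, P i.succ < P i.castSucc) : m ≤ d := by
  have h0 : ∀ p : Ideal k, p.IsPrime → p.height ≤ ((0 : ℕ) : ℕ∞) := by
    intro p hp
    have h1 : p = ⊥ := by
      rcases Ideal.eq_bot_or_top p with h | h
      · exact h
      · exact absurd h hp.ne_top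
    rw [h1, Ideal.height_bot]
    simp
  have h2 := K832.DimSub.dim_le (D := k) (B := D) 0 d h0 hd
  let l : LTSeries (PrimeSpectrum D) :=
    { length := m
      toFun := fun i => P i.rev
      step := by
        intro i
        have h3 := hlt i.rev
        have e1 : i.castSucc.rev = i.rev.succ := by
          ext; simp [Fin.rev]; omega
        have e2 : i.succ.rev = i.rev.castSucc := by
          ext; simp [Fin.rev]
        change P i.castSucc.rev < P i.succ.rev
        rw [e1, e2]
        exact h3 }
  have h4 : ((l.length : ℕ) : WithBot ℕ∞) ≤ ringKrullDim D := Order.LTSeries.length_le_krullDim l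
  have h5 := h4.trans h2
  have h6 : l.length ≤ 0 + d := by exact_mod_cast h5
  have h7 : l.length = m := rfl
  omega

/-- A chain of specializations below a point of transcendence degree at most `d`. -/
theorem chain_le_of_trdegAt {k : Type u} [Field k] {X : Scheme.{u}} (s : X ⟶ Spec (CommRingCat.of k))
    (y : X) (d : ℕ) (hd : trdegAt s y ≤ d) (m : ℕ) (x : Fin (m + 1) → X)
    (hsp : ∀ i : Fin m, x i.succ ⤳ x i.castSucc) (hne : ∀ i : Fin m, x i.succ ≠ x i.castSucc)
    (hy : y ⤳ x (Fin.last m)) : m ≤ d := by
  -- all points specialize to `x 0`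
  have h0 : ∀ i : Fin (m + 1), x i ⤳ x 0 := by
    intro i
    induction i using Fin.induction with
    | zero => exact specializes_rfl
    | succ i ih => exact (hsp i).trans ih
  have hy' : ∀ i : Fin (m + 1), y ⤳ x i := by
    intro i
    induction i using Fin.reverseInduction with
    | last => exact hy
    | cast i ih => exact ih.trans (hsp i)
  obtain ⟨V, hV, hxV, -⟩ := exists_isAffineOpen_mem_and_subset (x := x 0) (U := ⊤) trivial
  have hmem : ∀ z : X, z ⤳ x 0 → z ∈ V := fun z hz => hz.mem_open V.2 hxV
  have hyV : y ∈ V := hmem y (hy' 0)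
  let B : CommRingCat.{u} := Γ(X, V)
  have hr : Set.range hV.fromSpec = (V : Set X) := hV.range_fromSpec
  obtain ⟨p, hp⟩ : ∃ p : Spec B, hV.fromSpec p = y := by
    have : y ∈ Set.range hV.fromSpec := by rw [hr]; exact hyV
    exact this
  have hemb : Topology.IsEmbedding hV.fromSpec := hV.fromSpec.isOpenEmbedding.isEmbedding
  let I : Ideal B := PrimeSpectrum.asIdeal p
  have hI : I.IsPrime := PrimeSpectrum.isPrime p
  let D : Type u := B ⧸ I
  let q : Spec (CommRingCat.of D) ⟶ X :=
    Spec.map (CommRingCat.ofHom (Ideal.Quotient.mk I)) ≫ hV.fromSpec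
  have hmk : Function.Surjective (CommRingCat.ofHom (Ideal.Quotient.mk I)).hom := Ideal.Quotient.mk_surjective
  have hci : IsClosedImmersion (Spec.map (CommRingCat.ofHom (Ideal.Quotient.mk I))) :=
    IsClosedImmersion.spec_of_surjective _ hmk
  have hq : IsPreimmersion q := inferInstance
  have hqe : Topology.IsEmbedding q := q.isEmbedding
  -- the points are in the range
  have hrange : ∀ z : X, y ⤳ z → z ∈ V → ∃ P : Spec (CommRingCat.of D), q P = z := by
    intro z hz hzV
    obtain ⟨Q, hQ⟩ : ∃ Q : Spec B, hV.fromSpec Q = z := by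
      have : z ∈ Set.range hV.fromSpec := by rw [hr]; exact hzV
      exact this
    have h1 : p ⤳ Q := by
      rw [← hemb.toIsInducing.specializes_iff, hp, hQ]
      exact hz
    have h2 : I ≤ PrimeSpectrum.asIdeal Q := (PrimeSpectrum.le_iff_specializes p Q).mpr h1
    have h3 : Q ∈ Set.range (PrimeSpectrum.comap (Ideal.Quotient.mk I)) := by
      rw [range_comap_of_surjective _ _ Ideal.Quotient.mk_surjective, Ideal.mk_ker]
      exact h2
    obtain ⟨P, hP⟩ := h3
    refine ⟨P, ?_⟩
    change hV.fromSpec (Spec.map (CommRingCat.ofHom (Ideal.Quotient.mk I)) P) = z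
    rw [← hQ]
    exact congrArg _ hP
  choose P hP using fun i : Fin (m + 1) => hrange (x i) (hy' i) (hmem _ (h0 i))
  -- the structure of algebra
  let φ : CommRingCat.of k ⟶ CommRingCat.of D := Spec.preimage (q ≫ s)
  have hφ : Spec.map φ = q ≫ s := Spec.map_preimage _
  let _ : Algebra k D := φ.hom.toAlgebra
  have hg : q (genericPoint (Spec (CommRingCat.of D))) = y := by
    have h1 : q (genericPoint (Spec (CommRingCat.of D))) ⤳ y := by
      obtain ⟨P', hP'⟩ := hrange y specializes_rfl hyV
      rw [← hP']
      exact (genericPoint_specializes P').map q.continuous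
    have h2 : y ⤳ q (genericPoint (Spec (CommRingCat.of D))) := by
      rw [← hp]
      change hV.fromSpec p ⤳ hV.fromSpec (Spec.map (CommRingCat.ofHom (Ideal.Quotient.mk I)) _)
      refine Specializes.map ?_ hV.fromSpec.continuous
      refine (PrimeSpectrum.le_iff_specializes p _).mp ?_
      intro b hb
      have h3 : Ideal.Quotient.mk I b ∈
          (PrimeSpectrum.asIdeal (genericPoint (Spec (CommRingCat.of D))) : Ideal D) := by
        rw [Ideal.Quotient.eq_zero_iff_mem.mpr hb]
        exact Ideal.zero_mem _
      exact h3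
    exact (h1.antisymm h2).eq
  have htr : Algebra.trdeg k D ≤ d := by
    have h1 := trdegAt_genericPoint_Spec φ φ.hom.injective
    rw [hφ, trdegAt_comp, trdegAt_eq_zero_of_isPreimmersion q, add_zero, hg] at h1
    have h2 : trd φ.hom = Algebra.trdeg k D := rfl
    rw [← h2, ← h1]
    exact hd
  refine chain_le (k := k) (D := D) d htr m P fun i => ?_
  have h1 : P i.succ ⤳ P i.castSucc := by
    rw [← hqe.toIsInducing.specializes_iff, hP, hP]
    exact hsp i
  have h2 : P i.succ ≠ P i.castSucc := fun h => hne i (by rw [← hP, ← hP, h])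
  exact lt_of_le_of_ne ((PrimeSpectrum.le_iff_specializes _ _).mpr h1) h2

/-- The transcendence degree at a point of a scheme of finite type of dimension at most `n`. -/
theorem trdegAt_le_of_dim {k : Type u} [Field k] {Y : Scheme.{u}} (g : Y ⟶ Spec (CommRingCat.of k))
    [LocallyOfFiniteType g] (n : ℕ) (hn : topologicalKrullDim Y ≤ n) (x : Y) :
    trdegAt g x ≤ (n : Cardinal.{u}) := by
  obtain ⟨m, h1, h2⟩ := K221.FldPt.exists_dim_closure g x
  rw [h1]
  have h3 : ((m : ℕ) : WithBot ℕ∞) ≤ n := by
    rw [← h2]
    exact (topologicalKrullDim_subspace_le _ _).trans hn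
  have h4 : m ≤ n := by exact_mod_cast h3
  exact_mod_cast h4

/-- TOP: the dimension of a set covered by finitely many images. -/
theorem topDim {k : Type u} [Field k] (H : Over (Spec (CommRingCat.of k))) (n : ℕ) {ι : Type} [Finite ι]
    (U : ι → Over (Spec (CommRingCat.of k))) (g : ∀ α, U α ⟶ H)
    (hU : ∀ α, LocallyOfFiniteType (U α).hom ∧ QuasiCompact (U α).hom ∧ topologicalKrullDim ↥(U α).left ≤ n)
    (T : Set ↥H.left) (hT : ∀ x ∈ T, ∃ α, x ∈ Set.range (g α).left.base) :
    topologicalKrullDim ↥T ≤ n := by
  classical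
  refine iSup_le fun l => ?_
  let φ : IrreducibleCloseds ↥T → IrreducibleCloseds ↥H.left :=
    IrreducibleCloseds.map Subtype.val continuous_subtype_val
  have hφ : StrictMono φ := IrreducibleCloseds.map_strictMono_of_isInducing Topology.IsInducing.subtypeVal
  let e := irreducibleSetEquivPoints (α := ↥H.left)
  have hcl : ∀ Z : IrreducibleCloseds ↥H.left, (Z : Set ↥H.left) = closure {e Z} := by
    intro Z
    conv_lhs => rw [← e.symm_apply_apply Z]
    rfl
  let x : Fin (l.length + 1) → ↥H.left := fun i => e (φ (l i))
  have hlt : ∀ i : Fin l.length, φ (l i.castSucc) < φ (l i.succ) := fun i => hφ (l.step i)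
  -- the last term is covered by the images
  let Z : Set ↥H.left := Subtype.val '' ((l (Fin.last _) : IrreducibleCloseds ↥T) : Set ↥T)
  have hZirr : IsIrreducible Z :=
    (l (Fin.last _)).isIrreducible.image _ continuous_subtype_val.continuousOn
  have hZT : Z ⊆ T := by
    rintro _ ⟨z, -, rfl⟩
    exact z.2
  have hfin : ∀ α, (irreducibleComponents ↥(U α).left).Finite := by
    intro α
    have := (hU α).1
    have := (hU α).2.1
    have h1 : IsNoetherian (U α).left := by
      have : IsLocallyNoetherian (U α).left := LocallyOfFiniteType.isLocallyNoetherian (U α).hom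
      have : CompactSpace ↥(U α).left := QuasiCompact.compactSpace_of_compactSpace (U α).hom
      exact { }
    exact TopologicalSpace.NoetherianSpace.finite_irreducibleComponents
  let F : Set (Set ↥H.left) :=
    ⋃ α, (fun C : Set ↥(U α).left => closure ((g α).left.base '' C)) '' irreducibleComponents ↥(U α).left
  have hF : F.Finite := Set.finite_iUnion fun α => (hfin α).image _
  obtain ⟨C', hC', hZC⟩ : ∃ C' ∈ F, Z ⊆ C' := by
    have h1 := isIrreducible_iff_sUnion_isClosed.mp hZirr hF.toFinset (by
      intro z hz
      rw [Set.Finite.mem_toFinset] at hz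
      obtain ⟨α, C, -, rfl⟩ := Set.mem_iUnion.mp hz
      exact isClosed_closure) (by
      intro z hz
      obtain ⟨α, u, hu⟩ := hT z (hZT hz)
      refine Set.mem_sUnion.mpr ⟨closure ((g α).left.base '' irreducibleComponent u), ?_, ?_⟩
      · rw [Set.Finite.coe_toFinset]
        exact Set.mem_iUnion.mpr ⟨α, irreducibleComponent u, irreducibleComponent_mem_irreducibleComponents u, rfl⟩
      · exact subset_closure ⟨u, mem_irreducibleComponent, hu⟩)
    obtain ⟨C', h2, h3⟩ := h1
    exact ⟨C', hF.mem_toFinset.mp h2, h3⟩
  obtain ⟨α, C, hC, rfl⟩ := Set.mem_iUnion.mp hC'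
  have hCirr : IsIrreducible C := hC.1
  have hCcl : IsClosed C := isClosed_of_mem_irreducibleComponents C hC
  obtain ⟨η, hη⟩ := QuasiSober.sober hCirr hCcl
  have := (hU α).1
  have htr : trdegAt H.hom ((g α).left η) ≤ (n : Cardinal.{u}) := by
    have h1 := trdegAt_le_of_dim (U α).hom n (hU α).2.2 η
    have h2 : (U α).hom = (g α).left ≫ H.hom := (Over.w (g α)).symm
    rw [h2, trdegAt_comp] at h1
    exact le_self_add.trans h1
  have hy : (g α).left η ⤳ x (Fin.last _) := by
    have h1 : closure ((g α).left.base '' C) ⊆ closure {(g α).left η} := by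
      refine closure_minimal ?_ isClosed_closure
      rintro _ ⟨c, hc, rfl⟩
      have h2 : η ⤳ c := hη.specializes hc
      exact (h2.map (g α).left.continuous).mem_closure
    have h2 : (φ (l (Fin.last _)) : Set ↥H.left) = closure Z := rfl
    have h3 : x (Fin.last _) ∈ closure Z := by
      rw [← h2, hcl]
      exact subset_closure rfl
    rw [specializes_iff_mem_closure]
    exact closure_minimal (hZC.trans h1) isClosed_closure h3
  have hmain := chain_le_of_trdegAt H.hom _ n htr l.length x (by
    intro i
    rw [specializes_iff_mem_closure, ← hcl]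
    have h1 : x i.castSucc ∈ (φ (l i.castSucc) : Set ↥H.left) := by
      rw [hcl]
      exact subset_closure rfl
    exact (hlt i).le h1) (by
    intro i h
    exact (hlt i).ne (e.injective h.symm)) hy
  exact_mod_cast hmain

end K484.TopDim
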