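import Groth.Agent.Fano.K484.FamC
import Groth.Agent.Fano.K484.TopDim
import Groth.Agent.Fano.K51.DegDef

/-!
# Dimension of a set of rational curves parametrised by finitely many algebras

* `K484.DimLe.dim_le`: node TOP + FAM of S16531 (`Groth.Agent.Fano.K51.PlanT.dim_le`).
-/

set_option autoImplicit false
universe u
open CategoryTheory CategoryTheory.Limits AlgebraicGeometry TopologicalSpace Opposite

namespace K484.DimLe

open Groth.Agent.Fano.K714.Rat K387.FormProj K387.RatNormal K390.PnSec K484.FamVan K484.FamQ K484.FamC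
open Groth.Agent.Lefpen.H872.RelCI Groth.Agent.Lefpen.H872.RelBase Groth.Agent.CohqB.ProjBC

attribute [local instance] MvPolynomial.gradedAlgebra

section

variable {k : Type u} [Field k]
    (f : LefPen.Form 4 k 3) (H : Over (Spec (CommRingCat.of k))) (Z : FGA.HilbSet (ps f) H)
    (d n : ℕ)

/-- The classes of the closed immersions with coordinates `c` are covered by finitely many schemes of dimension
at most `n`. -/
def Cov (A : Type u) [CommRing A] [Algebra k A] (c : Fin (d + 1) → Fin 5 → A) : Prop :=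
  ∃ (ι : Type) (_ : Finite ι) (U : ι → Over (Spec (CommRingCat.of k))) (g : ∀ β, U β ⟶ H),
    (∀ β, LocallyOfFiniteType (U β).hom ∧ QuasiCompact (U β).hom ∧ topologicalKrullDim ↥(U β).left ≤ n) ∧
    ∀ (m : A →ₐ[k] k) (h : pt k ⟶ H) (i : CohB1.ProjSpace 1 k ⟶ Xf f),
      IsClosedImmersion i → IsPar f d (fun a j => m (c a j)) i →
        FGA.hilbPull (ps f) h Z.1 = i.ker.comap (pullback.fst (ps f) (pt k).hom) →
        ∃ β, h.left.base (IsLocalRing.closedPoint k) ∈ Set.range (g β).left.base

variable {f H Z d n}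

/-- The extension of a point to a localization. -/
theorem exists_ext {A : Type u} [CommRing A] [Algebra k A] (m : A →ₐ[k] k) (g : A) (hg : m g ≠ 0) :
    ∃ m' : Localization.Away g →ₐ[k] k, ∀ a, m' (algebraMap A (Localization.Away g) a) = m a := by
  have h1 : ∀ y : Submonoid.powers g, IsUnit (m y) := by
    rintro ⟨_, l, rfl⟩
    rw [map_pow]
    exact (isUnit_iff_ne_zero.mpr hg).pow l
  exact ⟨IsLocalization.liftAlgHom (M := Submonoid.powers g) h1, fun a => by
    rw [IsLocalization.liftAlgHom_apply]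
    exact IsLocalization.lift_eq _ a⟩

theorem cov_of_local {A : Type u} [CommRing A] [IsNoetherianRing A] [Algebra k A]
    {c : Fin (d + 1) → Fin 5 → A}
    (hloc : ∀ (m : A →ₐ[k] k) (i : CohB1.ProjSpace 1 k ⟶ Xf f), IsClosedImmersion i →
      IsPar f d (fun a j => m (c a j)) i →
      ∃ g : A, m g ≠ 0 ∧ Cov f H Z d n (Localization.Away g) (fun a j => algebraMap A (Localization.Away g) (c a j))) :
    Cov f H Z d n A c := by
  classical
  obtain ⟨S, hS⟩ : ∃ S : Set A, S = {g | Cov f H Z d n (Localization.Away g)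
    (fun a j => algebraMap A (Localization.Away g) (c a j))} := ⟨_, rfl⟩
  obtain ⟨t, ht1, ht2⟩ := (Submodule.fg_span_iff_fg_span_finset_subset S).mp
    (IsNoetherian.noetherian (Ideal.span S))
  have hcov : ∀ l : Fin t.card, Cov f H Z d n (Localization.Away (t.equivFin.symm l : A))
      (fun a j => algebraMap A (Localization.Away (t.equivFin.symm l : A)) (c a j)) := by
    intro l
    have h1 : (t.equivFin.symm l : A) ∈ S := ht1 (t.equivFin.symm l).2
    rw [hS] at h1
    exact h1
  choose ι hι U g hU hg using hcov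
  refine ⟨Σ l : Fin t.card, ι l, inferInstance, fun β => U β.1 β.2, fun β => g β.1 β.2,
    fun β => hU β.1 β.2, fun m h i hi hpar hh => ?_⟩
  obtain ⟨g₀, hg₀, hg₀'⟩ := hloc m i hi hpar
  obtain ⟨e, het, he⟩ : ∃ e ∈ t, m e ≠ 0 := by
    by_contra hcon
    push Not at hcon
    apply hg₀
    have h1 : Ideal.span S ≤ RingHom.ker (m : A →+* k) := by
      have h2 : Ideal.span S = Ideal.span (t : Set A) := ht2
      rw [h2, Ideal.span_le]
      intro e he
      exact hcon e he
    exact h1 (Ideal.subset_span (by rw [hS]; exact hg₀'))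
  obtain ⟨l, hl⟩ := t.equivFin.symm.surjective ⟨e, het⟩
  have hl' : (t.equivFin.symm l : A) = e := congrArg Subtype.val hl
  obtain ⟨m', hm'⟩ := exists_ext m (t.equivFin.symm l : A) (by rw [hl']; exact he)
  obtain ⟨β, hβ⟩ := hg l m' h i hi (by simp only [hm']; exact hpar) hh
  exact ⟨⟨l, β⟩, hβ⟩

theorem dim_away {A : Type u} [CommRing A] (g : A) :
    topologicalKrullDim (PrimeSpectrum (Localization.Away g)) ≤ topologicalKrullDim (PrimeSpectrum A) :=
  (PrimeSpectrum.localization_away_isOpenEmbedding (Localization.Away g) g).isInducing.topologicalKrullDim_le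

theorem cov_of_closed [IsAlgClosed k] (hH : FGA.HilbRepresentedBy (ps f) H Z) {A : Type u} [CommRing A] [Algebra k A]
    [Algebra.FiniteType k A]
    (hdim : topologicalKrullDim (PrimeSpectrum A) ≤ n) {c : Fin (d + 1) → Fin 5 → A} {σ : k →+* A}
    (hσ : σ = algebraMap k A) {j : CohB1.ProjSpace 1 A ⟶ Xf f} (hj : IsFam σ f c j)
    (hcl : IsClosedImmersion (LL hj)) : Cov f H Z d n A c := by
  have hN : IsNoetherianRing A := Algebra.FiniteType.isNoetherianRing k A
  have hprop : IsProper (CohB1.ProjSpace.toSpec 1 A) := Groth.Agent.Ega3B.ProjProper.isProper_toSpec 1 A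
  have hflat : Flat (CohB1.ProjSpace.toSpec 1 A) := K387.RatFam.flat_toSpec _
  obtain ⟨g, hg⟩ := Groth.Agent.Fano.K434.HilbFam.exists_hom_of_family (ps f) H Z hH A σ
    (CohB1.ProjSpace.toSpec 1 A) j hj.1 hcl
  refine ⟨Unit, inferInstance, fun _ => Over.mk (Spec.map (CommRingCat.ofHom σ)), fun _ => g,
    fun _ => ⟨?_, ?_, hdim⟩, fun m h i hi hpar hh => ⟨(), ?_⟩⟩
  · change LocallyOfFiniteType (Spec.map (CommRingCat.ofHom σ))
    rw [HasRingHomProperty.Spec_iff (P := @LocallyOfFiniteType), hσ]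
    exact (RingHom.finiteType_algebraMap).mpr inferInstance
  · change QuasiCompact (Spec.map (CommRingCat.ofHom σ))
    infer_instance
  · have hμ : (m : A →+* k).comp σ = RingHom.id k := by
      rw [hσ]
      exact RingHom.ext fun a => m.commutes a
    have hSp : Spec.map (CommRingCat.ofHom (m : A →+* k)) ≫ Spec.map (CommRingCat.ofHom σ) =
        𝟙 (Spec (CommRingCat.of k)) := by
      rw [← Spec.map_comp, ← CommRingCat.ofHom_comp, hμ]
      exact Spec.map_id _
    have hii : i = pmap (m : A →+* k) 1 ≫ j := par_unique f hpar (hj.isPar _ hμ)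
    have h1 := hg (m : A →+* k) hSp _ (CohB1.ProjSpace.toSpec 1 k) (pmap (m : A →+* k) 1) (isPullback_pmap _ 1)
    have hh' : h = (Over.homMk (Spec.map (CommRingCat.ofHom (m : A →+* k))) hSp :
            pt k ⟶ Over.mk (Spec.map (CommRingCat.ofHom σ))) ≫ g := by
      have hLN : IsLocallyNoetherian (pt k).left :=
        inferInstanceAs (IsLocallyNoetherian (Spec (CommRingCat.of k)))
      refine (hH.2 (pt k) ⟨FGA.hilbPull (ps f) h Z.1, Groth.Agent.Fga.HilbClosed.mem_hilbPull (ps f) h Z⟩).unique rfl ?_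
      exact h1.trans (by rw [← hii]; exact hh.symm)
    rw [hh']
    exact ⟨Spec.map (CommRingCat.ofHom (m : A →+* k)) (IsLocalRing.closedPoint k), rfl⟩

theorem cov_of_cov [IsAlgClosed k] (hH : FGA.HilbRepresentedBy (ps f) H Z) {A : Type u} [CommRing A] [Algebra k A]
    [Algebra.FiniteType k A]
    (hdim : topologicalKrullDim (PrimeSpectrum A) ≤ n) {c : Fin (d + 1) → Fin 5 → A}
    (hcov : ⨆ l, Df (FF c l) = ⊤)
    (h0 : MvPolynomial.aeval (R := A) (bf (n := 4) c) (MvPolynomial.map (algebraMap k A) f.1) = 0) :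
    Cov f H Z d n A c := by
  have hN : IsNoetherianRing A := Algebra.FiniteType.isNoetherianRing k A
  obtain ⟨j, hj⟩ := exists_j (algebraMap k A) f c hcov h0
  refine cov_of_local fun m i hi hpar => ?_
  have hμ : (m : A →+* k).comp (algebraMap k A) = RingHom.id k := RingHom.ext fun a => m.commutes a
  have hii : i = pmap (m : A →+* k) 1 ≫ j := par_unique f hpar (hj.isPar _ hμ)
  obtain ⟨g, hg1, hg2⟩ := exists_closed hj (m : A →+* k) hμ (by rw [← hii]; exact hi)
  refine ⟨g, hg1, ?_⟩
  have : Algebra.FiniteType k (Localization.Away g) :=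
    Algebra.FiniteType.trans (S := A) inferInstance inferInstance
  exact cov_of_closed hH ((dim_away g).trans hdim) (IsScalarTower.algebraMap_eq k A _).symm _ hg2

theorem cov_main [IsAlgClosed k] (hH : FGA.HilbRepresentedBy (ps f) H Z) {A : Type u} [CommRing A] [Algebra k A]
    [Algebra.FiniteType k A]
    (hdim : topologicalKrullDim (PrimeSpectrum A) ≤ n) {c : Fin (d + 1) → Fin 5 → A}
    (h0 : MvPolynomial.aeval (R := A) (bf (n := 4) c) (MvPolynomial.map (algebraMap k A) f.1) = 0) :
    Cov f H Z d n A c := by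
  have hN : IsNoetherianRing A := Algebra.FiniteType.isNoetherianRing k A
  refine cov_of_local fun m i hi hpar => ?_
  obtain ⟨g, hg1, hg2⟩ := exists_cov f c (m : A →+* k) i hpar
  refine ⟨g, hg1, ?_⟩
  have : Algebra.FiniteType k (Localization.Away g) :=
    Algebra.FiniteType.trans (S := A) inferInstance inferInstance
  refine cov_of_cov hH ((dim_away g).trans hdim) hg2 ?_
  have h1 := K387.RatFam.map_aeval_bf (algebraMap A (Localization.Away g)) (n := 4) c
    (MvPolynomial.map (algebraMap k A) f.1)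
  rw [h0, map_zero, MvPolynomial.map_map, ← IsScalarTower.algebraMap_eq] at h1
  exact h1.symm

end

/-- TOP + FAM. -/
theorem dim_le {k : Type u} [Field k] [IsAlgClosed k] [CharZero k]
    (f : LefPen.Form 4 k 3) (H : Over (Spec (CommRingCat.of k))) (Z : FGA.HilbSet (ps f) H)
    (hH : FGA.HilbRepresentedBy (ps f) H Z) {d : ℕ} (_hd : 1 ≤ d) (n : ℕ) {ι : Type} [Finite ι]
    (R : ι → Type u) [∀ α, CommRing (R α)] [∀ α, Algebra k (R α)] [∀ α, Algebra.FiniteType k (R α)]
    (hdim : ∀ α, ringKrullDim (R α) ≤ n)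
    (c : ∀ α, Fin (d + 1) → Fin 5 → R α)
    (hc : ∀ α, MvPolynomial.aeval (Groth.Agent.Fano.K51.DegDef.bf (c α)) f.1 = 0)
    (T : Set ↥H.left)
    (hT : ∀ x ∈ T, ∃ (α : ι) (m : R α →ₐ[k] k) (h : pt k ⟶ H) (i : CohB1.ProjSpace 1 k ⟶ Xf f),
      IsClosedImmersion i ∧ IsPar f d (fun a j => m (c α a j)) i ∧
        x = h.left.base (IsLocalRing.closedPoint k) ∧
        FGA.hilbPull (ps f) h Z.1 = i.ker.comap (pullback.fst (ps f) (pt k).hom)) :
    topologicalKrullDim ↥T ≤ n := by
  have hcov : ∀ α, Cov f H Z d n (R α) (c α) := by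
    intro α
    refine cov_main hH ?_ ?_
    · rw [PrimeSpectrum.topologicalKrullDim_eq_ringKrullDim]
      exact hdim α
    · have h1 := hc α
      rw [MvPolynomial.aeval_def, MvPolynomial.algebraMap_eq, MvPolynomial.eval₂_map]
      exact h1
  choose κ hκ U g hU hg using hcov
  refine K484.TopDim.topDim H n (ι := Σ α, κ α) (fun β => U β.1 β.2) (fun β => g β.1 β.2)
    (fun β => hU β.1 β.2) T fun x hx => ?_
  obtain ⟨α, m, h, i, hi, hpar, rfl, hh⟩ := hT x hx
  obtain ⟨β, hβ⟩ := hg α m h i hi hpar hh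
  exact ⟨⟨α, β⟩, hβ⟩

end K484.DimLe
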