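import Groth.Agent.Fano.K484.FamQ

/-!
# Families of parametrised rational curves on a cubic threefold: the closed immersion locus

* `exists_closed`: the morphism is a closed immersion over a neighbourhood of a good `k`-point.
-/

set_option autoImplicit false
universe u
open CategoryTheory CategoryTheory.Limits AlgebraicGeometry TopologicalSpace Opposite

namespace K484.FamC

open Groth.Agent.Fano.K714.Rat K387.FormProj K387.RatNormal K390.PnSec K484.FamVan K484.FamQ
open Groth.Agent.Lefpen.H872.RelCI Groth.Agent.Lefpen.H872.RelBase Groth.Agent.CohqB.ProjBC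

attribute [local instance] MvPolynomial.gradedAlgebra

variable {k : Type u} [Field k] {A : Type u} [CommRing A] {σ : k →+* A} {d : ℕ} {f : LefPen.Form 4 k 3}
  {c : Fin (d + 1) → Fin 5 → A}

/-- A rational point is the spectrum of its residue field. -/
theorem exists_gamma (μ : A →+* k) (hμ : μ.comp σ = RingHom.id k) :
    ∃ γ : Spec (CommRingCat.of k) ⟶ Spec ((Spec (CommRingCat.of A)).residueField
        (Spec.map (CommRingCat.ofHom μ) (IsLocalRing.closedPoint k))),
      IsIso γ ∧ γ ≫ (Spec (CommRingCat.of A)).fromSpecResidueField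
        (Spec.map (CommRingCat.ofHom μ) (IsLocalRing.closedPoint k)) = Spec.map (CommRingCat.ofHom μ) := by
  have h1 := Scheme.descResidueField_stalkClosedPointTo_fromSpecResidueField k (Spec (CommRingCat.of A))
    (Spec.map (CommRingCat.ofHom μ))
  generalize (Spec (CommRingCat.of A)).descResidueField
    (Scheme.stalkClosedPointTo (Spec.map (CommRingCat.ofHom μ))) = ρ at h1
  refine ⟨Spec.map ρ, ?_, h1⟩
  have h2 : Spec.map ρ ≫ ((Spec (CommRingCat.of A)).fromSpecResidueField
      (Spec.map (CommRingCat.ofHom μ) (IsLocalRing.closedPoint k)) ≫ Spec.map (CommRingCat.ofHom σ)) = 𝟙 _ := by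
    rw [← Category.assoc, h1, ← Spec.map_comp, ← CommRingCat.ofHom_comp, hμ]
    exact Spec.map_id _
  rw [← Spec.map_preimage ((Spec (CommRingCat.of A)).fromSpecResidueField
      (Spec.map (CommRingCat.ofHom μ) (IsLocalRing.closedPoint k)) ≫ Spec.map (CommRingCat.ofHom σ)),
    ← Spec.map_comp, ← Spec.map_id, Spec.map_inj] at h2
  have h3 : Function.Surjective ρ.hom := by
    intro a
    exact ⟨_, congr(($h2).hom a)⟩
  have h4 : Function.Injective ρ.hom := ρ.hom.injective
  have h5 : IsIso ρ := (ConcreteCategory.isIso_iff_bijective ρ).mpr ⟨h4, h3⟩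
  infer_instance

theorem isProper_ps (f : LefPen.Form 4 k 3) : IsProper (ps f) := by
  have : IsProper (CohB1.ProjSpace.toSpec 4 k) := Groth.Agent.Ega3B.ProjProper.isProper_toSpec 4 k
  infer_instance

theorem isSeparated_fst (f : LefPen.Form 4 k 3) (σ : k →+* A) :
    IsSeparated (pullback.fst (ps f) (Spec.map (CommRingCat.ofHom σ))) := inferInstance

/-- The base change to a good point is a closed immersion. -/
theorem closed_map {j : CohB1.ProjSpace 1 A ⟶ Xf f} (hj : IsFam σ f c j) (μ : A →+* k)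
    {Z : Scheme.{u}} (ιs : Z ⟶ Spec (CommRingCat.of A)) [IsAffineHom ιs]
    (γ : Spec (CommRingCat.of k) ⟶ Z) [IsIso γ]
    (hγ' : γ ≫ ιs = Spec.map (CommRingCat.ofHom μ)) (hi : IsClosedImmersion (pmap μ 1 ≫ j))
    (w : LL hj ≫ pullback.snd (ps f) (Spec.map (CommRingCat.ofHom σ)) = CohB1.ProjSpace.toSpec 1 A) :
    IsClosedImmersion (pullback.map (CohB1.ProjSpace.toSpec 1 A) ιs
      (pullback.snd (ps f) (Spec.map (CommRingCat.ofHom σ))) ιs (LL hj) (𝟙 _) (𝟙 _)
      (by rw [Category.comp_id, w]) (by rw [Category.comp_id, Category.id_comp])) := by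
  have hp : IsPullback (pmap μ 1) (CohB1.ProjSpace.toSpec 1 k) (CohB1.ProjSpace.toSpec 1 A) (γ ≫ ιs) := by
    rw [hγ']
    exact isPullback_pmap μ 1
  have hp2 := hp.of_right' (IsPullback.of_hasPullback (CohB1.ProjSpace.toSpec 1 A) ιs)
  have he := hp2.isIso_fst_of_isIso
  have he' := (IsPullback.of_hasPullback (CohB1.ProjSpace.toSpec 1 A) ιs).lift_fst (pmap μ 1)
    (CohB1.ProjSpace.toSpec 1 k ≫ γ) (by rw [hp.w, Category.assoc])
  generalize (IsPullback.of_hasPullback (CohB1.ProjSpace.toSpec 1 A) ιs).lift (pmap μ 1)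
    (CohB1.ProjSpace.toSpec 1 k ≫ γ) (by rw [hp.w, Category.assoc]) = e at he he'
  have h1 : IsClosedImmersion (pullback.fst (CohB1.ProjSpace.toSpec 1 A) ιs ≫ j) := by
    rw [← he', Category.assoc, MorphismProperty.cancel_left_of_respectsIso @IsClosedImmersion] at hi
    exact hi
  have h3 : LL hj ≫ pullback.fst _ _ = j := pullback.lift_fst _ _ _
  have h2 : pullback.map (CohB1.ProjSpace.toSpec 1 A) ιs
      (pullback.snd (ps f) (Spec.map (CommRingCat.ofHom σ))) ιs (LL hj) (𝟙 _) (𝟙 _)
      (by rw [Category.comp_id, w]) (by rw [Category.comp_id, Category.id_comp]) ≫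
      (pullback.fst (pullback.snd (ps f) (Spec.map (CommRingCat.ofHom σ))) ιs ≫
        pullback.fst (ps f) (Spec.map (CommRingCat.ofHom σ))) =
      pullback.fst (CohB1.ProjSpace.toSpec 1 A) ιs ≫ j := by
    refine (pullback.lift_fst_assoc _ _ _ _).trans ?_
    rw [Category.assoc, h3]
  have h4 : IsSeparated (pullback.fst (pullback.snd (ps f) (Spec.map (CommRingCat.ofHom σ))) ιs) := by
    infer_instance
  have h5 := isSeparated_fst f σ
  have h6 : IsSeparated (pullback.fst (pullback.snd (ps f) (Spec.map (CommRingCat.ofHom σ))) ιs ≫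
    pullback.fst (ps f) (Spec.map (CommRingCat.ofHom σ))) := MorphismProperty.comp_mem _ _ _ h4 h5
  rw [← h2] at h1
  exact IsClosedImmersion.of_comp _ (pullback.fst (pullback.snd (ps f) (Spec.map (CommRingCat.ofHom σ))) ιs ≫
    pullback.fst _ _)

/-- The fibre over a good point is a closed immersion. -/
theorem closed_fiber {j : CohB1.ProjSpace 1 A ⟶ Xf f} (hj : IsFam σ f c j) (μ : A →+* k)
    (s : Spec (CommRingCat.of A))
    (γ : Spec (CommRingCat.of k) ⟶ Spec ((Spec (CommRingCat.of A)).residueField s)) [IsIso γ]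
    (hγ' : γ ≫ (Spec (CommRingCat.of A)).fromSpecResidueField s = Spec.map (CommRingCat.ofHom μ))
    (hi : IsClosedImmersion (pmap μ 1 ≫ j)) :
    IsClosedImmersion (CohIII.fiberMapOver (LL hj) (CohB1.ProjSpace.toSpec 1 A)
      (pullback.snd (ps f) (Spec.map (CommRingCat.ofHom σ))) (pullback.lift_snd _ _ _) s) :=
  closed_map hj μ ((Spec (CommRingCat.of A)).fromSpecResidueField s) γ hγ' hi (pullback.lift_snd _ _ _)

theorem exists_closed {j : CohB1.ProjSpace 1 A ⟶ Xf f} (hj : IsFam σ f c j) (μ : A →+* k)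
    (hμ : μ.comp σ = RingHom.id k) (hi : IsClosedImmersion (pmap μ 1 ≫ j)) :
    ∃ g : A, μ g ≠ 0 ∧ IsClosedImmersion (LL (hj.base (algebraMap A (Localization.Away g)))) := by
  have hp1 : IsProper (CohB1.ProjSpace.toSpec 1 A) := Groth.Agent.Ega3B.ProjProper.isProper_toSpec 1 A
  have hp2 := isProper_ps f
  have hp3 : IsProper (pullback.snd (ps f) (Spec.map (CommRingCat.ofHom σ))) := inferInstance
  obtain ⟨γ, hγ, hγ'⟩ := exists_gamma (σ := σ) μ hμ
  obtain ⟨U, hU, hcl⟩ := Groth.Agent.Ega3B.FibreSpread.exists_closedImmersion (LL hj) (CohB1.ProjSpace.toSpec 1 A)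
    (pullback.snd (ps f) (Spec.map (CommRingCat.ofHom σ))) (pullback.lift_snd _ _ _) _
    (closed_fiber hj μ _ γ hγ' hi)
  obtain ⟨g, hg1, hg2⟩ := exists_basic μ U hU
  refine ⟨g, hg1, ?_⟩
  have h1 := isPullback_LL hj (algebraMap A (Localization.Away g))
  have h2 : Set.range (tt f σ (algebraMap A (Localization.Away g))) ⊆
      Set.range ((pullback.snd (ps f) (Spec.map (CommRingCat.ofHom σ))) ⁻¹ᵁ U).ι := by
    rintro _ ⟨y, rfl⟩
    rw [Scheme.Opens.range_ι]
    have h3 := (isPullback_tt f σ (algebraMap A (Localization.Away g))).w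
    change (pullback.snd (ps f) (Spec.map (CommRingCat.ofHom σ)))
      (tt f σ (algebraMap A (Localization.Away g)) y) ∈ U
    rw [← Scheme.Hom.comp_apply, h3, Scheme.Hom.comp_apply]
    exact hg2 _ (map_mem_basic g _)
  have h3 := IsOpenImmersion.lift_fac ((pullback.snd (ps f) (Spec.map (CommRingCat.ofHom σ))) ⁻¹ᵁ U).ι
    (tt f σ (algebraMap A (Localization.Away g))) h2
  rw [← h3] at h1
  have h4 := h1.of_right' (isPullback_morphismRestrict (LL hj)
    ((pullback.snd (ps f) (Spec.map (CommRingCat.ofHom σ))) ⁻¹ᵁ U)).flip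
  exact MorphismProperty.of_isPullback (P := @IsClosedImmersion) h4 hcl

end K484.FamC
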