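import Groth.Agent.Fano.K484.FamVan
import Groth.Agent.Ega3B.FibreSpread

/-!
# Families of parametrised rational curves on a cubic threefold

* `exists_j`: coefficient vectors over a `k`-algebra `A` without common zeros, whose curve lies on `V_+(f)`, give a
  family of morphisms `P^1 → V_+(f)` over `Spec A`.
* `exists_cov`: the coordinates have no common zeros over a neighbourhood of a good `k`-point.
* `exists_closed`: the morphism is a closed immersion over a neighbourhood of a good `k`-point.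
-/

set_option autoImplicit false
universe u
open CategoryTheory CategoryTheory.Limits AlgebraicGeometry TopologicalSpace Opposite

namespace K484.FamQ

open Groth.Agent.Fano.K714.Rat K387.FormProj K387.RatNormal K390.PnSec K484.FamVan
open Groth.Agent.Lefpen.H872.RelCI Groth.Agent.Lefpen.H872.RelBase Groth.Agent.CohqB.ProjBC

attribute [local instance] MvPolynomial.gradedAlgebra

section rel

variable {k : Type u} [Field k] {A : Type u} [CommRing A] (σ : k →+* A) {d : ℕ} (f : LefPen.Form 4 k 3)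
  (c : Fin (d + 1) → Fin 5 → A)

/-- The coordinates. -/
noncomputable abbrev FF (c : Fin (d + 1) → Fin 5 → A) (j : Fin 5) : CohB1.polyGrading 1 A d :=
  ⟨bf (n := 4) c j, bf_mem (n := 4) c j⟩

/-- `j` is the family of morphisms `P^1 → V_+(f)` with coordinates `c`. -/
def IsFam (j : CohB1.ProjSpace 1 A ⟶ Xf f) : Prop :=
  j ≫ ps f = CohB1.ProjSpace.toSpec 1 A ≫ Spec.map (CommRingCat.ofHom σ) ∧
    GivenBy (j ≫ emb f) (Twist.twistProjSpace 1 A (d : ℤ)) (fun l => gl (FF c l))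

theorem exists_j (hcov : ⨆ l, Df (FF c l) = ⊤)
    (h0 : MvPolynomial.aeval (R := A) (bf (n := 4) c) (MvPolynomial.map σ f.1) = 0) :
    ∃ j : CohB1.ProjSpace 1 A ⟶ Xf f, IsFam σ f c j := by
  obtain ⟨r, hr1, hr2⟩ := exists_r (n := 4) (B := k) (FF c) hcov
    (CohB1.ProjSpace.toSpec 1 A ≫ Spec.map (CommRingCat.ofHom σ))
  obtain ⟨j, hj⟩ := exists_lift f r fun i => app_eq_zero σ (FF c) r hr1 hr2 (show RForm 4 k 3 from f) h0 i
  refine ⟨j, ?_, ?_⟩
  · rw [← hr1, ← hj, Category.assoc]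
  · rw [hj]
    exact hr2

theorem mapF_FF {B : Type u} [CommRing B] (μ : A →+* B) (l : Fin 5) :
    mapF μ (FF c l) = FF (fun a i => μ (c a i)) l :=
  Subtype.ext (K387.RatFam.map_bf μ (n := 4) c l)

theorem IsFam.base {c : Fin (d + 1) → Fin 5 → A} {f : LefPen.Form 4 k 3} {σ : k →+* A}
    {j : CohB1.ProjSpace 1 A ⟶ Xf f} (hj : IsFam σ f c j) {B : Type u} [CommRing B] (μ : A →+* B) :
    IsFam (μ.comp σ) f (fun a i => μ (c a i)) (pmap μ 1 ≫ j) := by
  refine ⟨?_, ?_⟩
  · rw [Category.assoc, hj.1, ← Category.assoc, pmap_toSpec, Category.assoc, ← Spec.map_comp,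
      ← CommRingCat.ofHom_comp]
  · have h := givenBy_pmap (FF c) (j ≫ emb f) μ hj.2
    simp only [mapF_FF] at h
    rw [Category.assoc]
    exact h

theorem isFam_iff (c : Fin (d + 1) → Fin 5 → k) (i : CohB1.ProjSpace 1 k ⟶ Xf f) :
    IsFam (RingHom.id k) f c i ↔ IsPar f d c i := by
  have h1 : CohB1.ProjSpace.toSpec 1 k ≫ Spec.map (CommRingCat.ofHom (RingHom.id k)) =
      CohB1.ProjSpace.toSpec 1 k :=
    (congrArg (CohB1.ProjSpace.toSpec 1 k ≫ ·) (Spec.map_id _)).trans (Category.comp_id _)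
  rw [IsFam, IsPar, h1]
  rfl

theorem IsFam.isPar {c : Fin (d + 1) → Fin 5 → A} {f : LefPen.Form 4 k 3} {σ : k →+* A}
    {j : CohB1.ProjSpace 1 A ⟶ Xf f} (hj : IsFam σ f c j)
    (μ : A →+* k) (hμ : μ.comp σ = RingHom.id k) :
    IsPar f d (fun a i => μ (c a i)) (pmap μ 1 ≫ j) := by
  have h := hj.base μ
  rw [hμ] at h
  exact (isFam_iff f _ _).mp h

theorem par_unique {c : Fin (d + 1) → Fin 5 → k} {i i' : CohB1.ProjSpace 1 k ⟶ Xf f} (hi : IsPar f d c i)
    (hi' : IsPar f d c i') : i = i' := by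
  rw [← cancel_mono (emb f)]
  refine hi.2.unique hi'.2 ?_
  rw [Category.assoc, Category.assoc]
  exact hi.1.trans hi'.1.symm

theorem mem_basic (μ : A →+* k) (g : A) : Spec.map (CommRingCat.ofHom μ) (IsLocalRing.closedPoint k) ∈
    (PrimeSpectrum.basicOpen g : Set (PrimeSpectrum A)) ↔ μ g ≠ 0 := by
  change μ g ∉ IsLocalRing.maximalIdeal k ↔ _
  rw [IsLocalRing.maximalIdeal_eq_bot, Ideal.mem_bot]

theorem exists_basic (μ : A →+* k) (U : (Spec (CommRingCat.of A)).Opens)
    (hU : Spec.map (CommRingCat.ofHom μ) (IsLocalRing.closedPoint k) ∈ U) :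
    ∃ g : A, μ g ≠ 0 ∧ ∀ x : Spec (CommRingCat.of A),
      x ∈ (PrimeSpectrum.basicOpen g : Set (PrimeSpectrum A)) → x ∈ U := by
  obtain ⟨_, ⟨_, ⟨g, rfl⟩, rfl⟩, hg1, hg2⟩ :=
    PrimeSpectrum.isBasis_basic_opens.exists_subset_of_mem_open hU U.2
  exact ⟨g, (mem_basic μ g).mp hg1, fun x hx => hg2 hx⟩

theorem map_mem_basic (g : A) (x : Spec (CommRingCat.of (Localization.Away g))) :
    Spec.map (CommRingCat.ofHom (algebraMap A (Localization.Away g))) x ∈
      (PrimeSpectrum.basicOpen g : Set (PrimeSpectrum A)) := by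
  intro h
  have h1 : algebraMap A (Localization.Away g) g ∈ x.asIdeal := h
  exact x.2.ne_top (Ideal.eq_top_of_isUnit_mem _ h1 (IsLocalization.Away.algebraMap_isUnit g))

/-- The coordinates have no common zeros over a neighbourhood of a good point. -/
theorem exists_cov (μ : A →+* k) (i : CohB1.ProjSpace 1 k ⟶ Xf f)
    (hi : IsPar f d (fun a l => μ (c a l)) i) :
    ∃ g : A, μ g ≠ 0 ∧
      ⨆ l, Df (FF (fun a i => algebraMap A (Localization.Away g) (c a i)) l) = ⊤ := by
  have h1 := iSup_of_givenBy (FF (fun a l => μ (c a l))) (i ≫ emb f) hi.2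
  obtain ⟨W, hW⟩ : ∃ W : (CohB1.ProjSpace 1 A).Opens, W = ⨆ l, Df (FF c l) := ⟨_, rfl⟩
  have h2 : ∀ y : CohB1.ProjSpace 1 k, pmap μ 1 y ∈ W := by
    intro y
    have h3 : y ∈ ⨆ l, Df (FF (fun a l => μ (c a l)) l) := by rw [h1]; trivial
    obtain ⟨l, hl⟩ := Opens.mem_iSup.mp h3
    rw [hW]
    refine Opens.mem_iSup.mpr ⟨l, ?_⟩
    have h4 := pmap_preimage μ (m := 1) (FF c l).1
    have h5 : y ∈ Df (mapF μ (FF c l)) := by rw [mapF_FF]; exact hl
    have h6 : y ∈ pmap μ 1 ⁻¹ᵁ Df (FF c l) := h4.ge h5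
    exact h6
  have hprop : IsProper (CohB1.ProjSpace.toSpec 1 A) := Groth.Agent.Ega3B.ProjProper.isProper_toSpec 1 A
  have hclosed : IsClosed ((CohB1.ProjSpace.toSpec 1 A) '' (W : Set (CohB1.ProjSpace 1 A))ᶜ) :=
    (CohB1.ProjSpace.toSpec 1 A).isClosedMap _ W.2.isClosed_compl
  obtain ⟨g, hg1, hg2⟩ := exists_basic μ ⟨_, hclosed.isOpen_compl⟩ (by
    rintro ⟨x, hx1, hx2⟩
    obtain ⟨z, hz1, -⟩ := Scheme.Pullback.exists_preimage_pullback (f := CohB1.ProjSpace.toSpec 1 A)
      (g := Spec.map (CommRingCat.ofHom μ)) x (IsLocalRing.closedPoint k) hx2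
    have h3 := h2 ((isPullback_pmap μ 1).isoPullback.inv z)
    have h4 : pmap μ 1 ((isPullback_pmap μ 1).isoPullback.inv z) = x := by
      rw [← Scheme.Hom.comp_apply, IsPullback.isoPullback_inv_fst, hz1]
    rw [h4] at h3
    exact hx1 h3)
  refine ⟨g, hg1, ?_⟩
  rw [eq_top_iff]
  intro y _
  have h3 : pmap (algebraMap A (Localization.Away g)) 1 y ∈ W := by
    by_contra hcon
    refine hg2 _ (map_mem_basic g (CohB1.ProjSpace.toSpec 1 (Localization.Away g) y)) ⟨_, hcon, ?_⟩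
    rw [← Scheme.Hom.comp_apply, pmap_toSpec]
    rfl
  rw [hW] at h3
  obtain ⟨l, hl⟩ := Opens.mem_iSup.mp h3
  refine Opens.mem_iSup.mpr ⟨l, ?_⟩
  have h4 := pmap_preimage (algebraMap A (Localization.Away g)) (m := 1) (FF c l).1
  have h5 : y ∈ Df (mapF (algebraMap A (Localization.Away g)) (FF c l)) := h4.le hl
  rw [mapF_FF] at h5
  exact h5

/-- The embedding of the family. -/
noncomputable abbrev LL {f : LefPen.Form 4 k 3} {σ : k →+* A} {c : Fin (d + 1) → Fin 5 → A}
    {j : CohB1.ProjSpace 1 A ⟶ Xf f} (hj : IsFam σ f c j) :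
    CohB1.ProjSpace 1 A ⟶ pullback (ps f) (Spec.map (CommRingCat.ofHom σ)) :=
  pullback.lift j (CohB1.ProjSpace.toSpec 1 A) hj.1

/-- The change of the parameter ring. -/
noncomputable def tt (f : LefPen.Form 4 k 3) (σ : k →+* A) {B : Type u} [CommRing B] (μ : A →+* B) :
    pullback (ps f) (Spec.map (CommRingCat.ofHom (μ.comp σ))) ⟶
      pullback (ps f) (Spec.map (CommRingCat.ofHom σ)) :=
  pullback.lift (pullback.fst _ _) (pullback.snd _ _ ≫ Spec.map (CommRingCat.ofHom μ)) (by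
    rw [Category.assoc, ← Spec.map_comp, ← CommRingCat.ofHom_comp]
    exact pullback.condition)

theorem isPullback_tt (f : LefPen.Form 4 k 3) (σ : k →+* A) {B : Type u} [CommRing B] (μ : A →+* B) :
    IsPullback (tt f σ μ) (pullback.snd _ _) (pullback.snd _ _) (Spec.map (CommRingCat.ofHom μ)) := by
  have h1 : IsPullback (tt f σ μ ≫ pullback.fst _ _) (pullback.snd _ _) (ps f)
      (Spec.map (CommRingCat.ofHom μ) ≫ Spec.map (CommRingCat.ofHom σ)) := by
    rw [← Spec.map_comp, ← CommRingCat.ofHom_comp]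
    have h2 : tt f σ μ ≫ pullback.fst _ _ = pullback.fst _ _ := pullback.lift_fst _ _ _
    rw [h2]
    exact IsPullback.of_hasPullback _ _
  exact IsPullback.of_right h1 (pullback.lift_snd _ _ _) (IsPullback.of_hasPullback _ _)

theorem isPullback_LL {f : LefPen.Form 4 k 3} {σ : k →+* A} {c : Fin (d + 1) → Fin 5 → A}
    {j : CohB1.ProjSpace 1 A ⟶ Xf f} (hj : IsFam σ f c j) {B : Type u} [CommRing B] (μ : A →+* B) :
    IsPullback (pmap μ 1) (LL (hj.base μ)) (LL hj) (tt f σ μ) := by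
  refine IsPullback.of_bot ?_ ?_ (isPullback_tt f σ μ)
  · have h1 : LL (hj.base μ) ≫ pullback.snd _ _ = CohB1.ProjSpace.toSpec 1 B := pullback.lift_snd _ _ _
    have h2 : LL hj ≫ pullback.snd _ _ = CohB1.ProjSpace.toSpec 1 A := pullback.lift_snd _ _ _
    rw [h1, h2]
    exact isPullback_pmap μ 1
  · apply pullback.hom_ext
    · rw [Category.assoc, pullback.lift_fst, Category.assoc, tt, pullback.lift_fst, pullback.lift_fst]
    · rw [Category.assoc, pullback.lift_snd, Category.assoc, tt, pullback.lift_snd, pullback.lift_snd_assoc,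
        pmap_toSpec]

end rel

end K484.FamQ
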