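import Groth.Agent.Fano.K387.RatFam
import Groth.Agent.Sga67.TwistPull
import Groth.Agent.Ega3B.ProjFrame
import Groth.Agent.Brauer.K442.PnLin

/-!
# Morphisms to projective space given by forms without common zeros, over a ring

* `app_eq_zero`: if `r : P^m_A ⟶ P^n_B` is given by forms `F_j` and `P(F) = 0`, then the functions `P / X_i^e` pull back to `0`.
* `givenBy_pmap`: base change.
* `exists_r`: existence.
-/

set_option autoImplicit false
universe u
open CategoryTheory CategoryTheory.Limits AlgebraicGeometry TopologicalSpace Opposite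

namespace K484.FamVan

open Groth.Agent.Fdesc.LocGen Groth.Agent.Dix.ProjProper
open Groth.Agent.VarietyB Groth.Agent.VarietyB.ProjGlue
open Groth.Agent.Ega2.H295.PnUniq Groth.Agent.Ega2.H295.PnCoord
open Groth.Agent.Lefpen.H872.RelBase Groth.Agent.Lefpen.H872.RelCI Groth.Agent.CohqB.ProjBC
open K390.PnSec K387.FormProj Groth.Agent.Ega2

attribute [local instance] MvPolynomial.gradedAlgebra

section given

variable {X : Scheme.{u}} {n : ℕ} {R : Type u} [CommRing R] {r : X ⟶ CohB1.ProjSpace n R} {M : X.Modules}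
  {s : Fin (n + 1) → Γ(M, ⊤)}

/-- The function `X_j / X_i` on the chart. -/
noncomputable def rat (n : ℕ) (R : Type u) [CommRing R] (i j : Fin (n + 1)) :
    Γ(CohB1.ProjSpace n R, rchart n R i) := ProjStd.ratio (Fin (n + 1)) R i j

theorem res_of_givenBy (h : GivenBy r M s) (i j : Fin (n + 1)) {V : X.Opens}
    (e : V ≤ r ⁻¹ᵁ rchart n R i) :
    res M (le_top : V ≤ ⊤) (s j) = (r.appLE (rchart n R i) V e (rat n R i j)) •
      res M (le_top : V ≤ ⊤) (s i) := by
  obtain ⟨τ, hτ⟩ := h
  have h1 := congrArg (τ.hom.app V) (res_tsec r i j e)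
  have h2 : ∀ l, τ.hom.app V (res _ (le_top : V ≤ ⊤) (tsec r l)) = res M (le_top : V ≤ ⊤) (s l) := by
    intro l
    rw [← hτ l]
    exact app_res τ.hom _ _
  refine (h2 j).symm.trans (h1.trans ?_)
  refine (Scheme.Modules.Hom.app_smul τ.hom _ _).trans ?_
  exact congrArg _ (h2 i)

theorem isGen_of_givenBy (h : GivenBy r M s) (i : Fin (n + 1)) {V : X.Opens}
    (e : V ≤ r ⁻¹ᵁ rchart n R i) : IsGen (res M (le_top : V ≤ ⊤) (s i)) := by
  obtain ⟨τ, hτ⟩ := h
  have h2 : τ.hom.app V (res _ (le_top : V ≤ ⊤) (tsec r i)) = res M (le_top : V ≤ ⊤) (s i) := by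
    rw [← hτ i]
    exact app_res τ.hom _ _
  exact h2 ▸ (isGen_res_tsec r i e).app τ.hom

end given

section chart

variable {A : Type u} [CommRing A] {m d : ℕ}

/-- Dehomogenization. -/
noncomputable def dh (m : ℕ) (A : Type u) [CommRing A] (l : Fin (m + 1)) :
    MvPolynomial (Fin (m + 1)) A →+* Γ(CohB1.ProjSpace m A, rchart m A l) := dpHom (Fin (m + 1)) A l

theorem dh_C (l : Fin (m + 1)) (a : A) :
    dh m A l (MvPolynomial.C a) = CoordData.baseHom (CohB1.ProjSpace.toSpec m A) (rchart m A l) a :=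
  dpHom_C l a

theorem dh_X (l j : Fin (m + 1)) : dh m A l (MvPolynomial.X j) = rat m A l j := dpHom_X l j

/-- The form `X_l^d`. -/
noncomputable def XP (m d : ℕ) (A : Type u) [CommRing A] (l : Fin (m + 1)) : CohB1.polyGrading m A d :=
  ⟨MvPolynomial.X l ^ d, by
    have h := (MvPolynomial.isHomogeneous_X A l).pow d
    rw [one_mul] at h
    exact (MvPolynomial.mem_homogeneousSubmodule _ _).mpr h⟩

/-- The open set where the form `G` does not vanish. -/
noncomputable abbrev Df (G : CohB1.polyGrading m A d) : (CohB1.ProjSpace m A).Opens :=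
  Proj.basicOpen (CohB1.polyGrading m A) G.1

theorem dp_le (l : Fin (m + 1)) :
    rchart m A l ≤ Df (XP m d A l) := by
  intro x hx hx'
  exact hx (x.isPrime.mem_of_pow_mem d hx')

theorem isGen_XP (l : Fin (m + 1)) : IsGen (res (Twist.twistProjSpace m A (d : ℤ))
    (le_top : rchart m A l ≤ ⊤) (gl (XP m d A l))) := isGen_gl _ (dp_le l)

theorem dh_form (F : RForm m A d) (l : Fin (m + 1)) : dh m A l F.1 = rdehom F l := by
  have h1 := congrArg (fun q => q F.1) (ProjStd.hom_std (Fin (m + 1)) A l)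
  refine h1.trans ?_
  refine congrArg (Proj.awayToSection (CohB1.polyGrading m A) (MvPolynomial.X l)).hom ?_
  exact ProjStd.deh_of_isHomogeneous (Fin (m + 1)) A l (n := d) F.1 (by rw [smul_eq_mul, mul_one]; exact F.2)

theorem res_gl_chart (F : CohB1.polyGrading m A d) (l : Fin (m + 1)) :
    res (Twist.twistProjSpace m A (d : ℤ)) (le_top : rchart m A l ≤ ⊤) (gl F) =
      dh m A l F.1 •
        res (Twist.twistProjSpace m A (d : ℤ)) (le_top : rchart m A l ≤ ⊤) (gl (XP m d A l)) := by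
  rw [dh_form]
  refine Subtype.ext (funext fun x => Subtype.ext ?_)
  refine Eq.trans ?_ (TwistBasic.smulS_val (𝒜 := CohB1.polyGrading m A) (d : ℤ) (rdehom F l)
    (res (Twist.twistProjSpace m A (d : ℤ))
        (le_top : rchart m A l ≤ ⊤) (gl (XP m d A l))) x).symm
  refine Eq.trans ?_ (congrArg (fun z => z * Localization.mk (XP m d A l).1
    (⟨1, VeryAmpleCrit.one_notMem (CohB1.polyGrading m A) x.1⟩ :
      x.1.asHomogeneousIdeal.toIdeal.primeCompl)) (dehom_val F l x)).symm
  refine Eq.trans ?_ (Localization.mk_mul _ _ _ _).symm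
  refine Localization.mk_eq_mk_iff.mpr ((Localization.r_iff_exists).mpr ⟨1, ?_⟩)
  simp [XP]
  ring

/-- On the chart `D_+(T_j)` the function `G / T_j^d` is a unit at `x` iff `x ∈ D_+(G)`. -/
theorem mem_basicOpen_dh (G : CohB1.polyGrading m A d) (j : Fin (m + 1)) (x : CohB1.ProjSpace m A)
    (hx : x ∈ rchart m A j) :
    x ∈ (CohB1.ProjSpace m A).basicOpen (dh m A j G.1) ↔ x ∈ Df G := by
  rw [dh_form, Scheme.mem_basicOpen _ _ _ hx]
  have h1 : IsUnit ((CohB1.ProjSpace m A).presheaf.germ (rchart m A j) x hx (rdehom G j)) ↔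
      IsUnit ((rdehom G j).1 ⟨x, hx⟩) := by
    have h2 := AlgebraicGeometry.Proj.stalkIso'_germ (𝒜 := CohB1.polyGrading m A) (rchart m A j) x hx (rdehom G j)
    rw [← h2]
    exact (MulEquiv.isUnit_map (AlgebraicGeometry.Proj.stalkIso' (CohB1.polyGrading m A) x)).symm
  have h3 := dehom_val G j ⟨x, hx⟩
  have h4 : IsUnit ((rdehom G j).1 ⟨x, hx⟩).val ↔ IsUnit ((rdehom G j).1 ⟨x, hx⟩) :=
    HomogeneousLocalization.isUnit_iff_isUnit_val _ _ ((rdehom G j).1 ⟨x, hx⟩)
  have h5 : IsUnit (Localization.mk G.1 ⟨MvPolynomial.X j ^ d, pow_mem_primeCompl j ⟨x, hx⟩ d⟩ :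
      Localization (ProjectiveSpectrum.asHomogeneousIdeal x).toIdeal.primeCompl) ↔
      x ∈ Df G := by
    rw [Localization.mk_eq_mk',
      IsLocalization.AtPrime.isUnit_mk'_iff _ (ProjectiveSpectrum.asHomogeneousIdeal x).toIdeal]
    rfl
  exact h1.trans (h4.symm.trans ((iff_of_eq (congrArg IsUnit h3)).trans h5))

theorem isGen_res (l : Fin (m + 1)) {V : (CohB1.ProjSpace m A).Opens} (e : V ≤ rchart m A l) :
    IsGen (res (Twist.twistProjSpace m A (d : ℤ)) (le_top : V ≤ ⊤) (gl (XP m d A l))) := by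
  have h := (isGen_XP (m := m) (d := d) (A := A) l).res e
  rw [res_res] at h
  exact h

theorem res_gl_le (F : CohB1.polyGrading m A d) (l : Fin (m + 1)) {V : (CohB1.ProjSpace m A).Opens}
    (e : V ≤ rchart m A l) :
    res (Twist.twistProjSpace m A (d : ℤ)) (le_top : V ≤ ⊤) (gl F) =
      ores e (dh m A l F.1) •
        res (Twist.twistProjSpace m A (d : ℤ)) (le_top : V ≤ ⊤) (gl (XP m d A l)) := by
  have h := congrArg (res _ e) (res_gl_chart F l)
  rw [res_res, res_smul, res_res] at h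
  exact h

end chart

section van

variable {A B : Type u} [CommRing A] [CommRing B] (σ : B →+* A) {m n d : ℕ}

theorem baseHom_spec {X : Scheme.{u}} (p : X ⟶ Spec (CommRingCat.of A)) (V : X.Opens) (b : B) :
    CoordData.baseHom (p ≫ Spec.map (CommRingCat.ofHom σ)) V b = CoordData.baseHom p V (σ b) := by
  simp only [CoordData.baseHom, RingHom.comp_apply]
  congr 1
  rw [Scheme.Hom.comp_appTop]
  have h := congrArg (fun q : CommRingCat.of B ⟶ _ => q.hom b)
    (Scheme.ΓSpecIso_inv_naturality (CommRingCat.ofHom σ))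
  exact congrArg p.appTop.hom h.symm

variable (F : Fin (n + 1) → CohB1.polyGrading m A d) (r : CohB1.ProjSpace m A ⟶ CohB1.ProjSpace n B)

theorem app_eq_zero (hw : r ≫ CohB1.ProjSpace.toSpec n B =
      CohB1.ProjSpace.toSpec m A ≫ Spec.map (CommRingCat.ofHom σ))
    (hr : GivenBy r (Twist.twistProjSpace m A (d : ℤ)) (fun j => gl (F j)))
    {e : ℕ} (P : RForm n B e)
    (h0 : MvPolynomial.aeval (R := A) (fun j => (F j).1) (MvPolynomial.map σ P.1) = 0) (i : Fin (n + 1)) :
    r.app (rchart n B i) (rdehom P i) = 0 := by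
  refine ores_ext (fun l : Fin (m + 1) => r ⁻¹ᵁ rchart n B i ⊓ rchart m A l)
    (fun l => inf_le_left) ?_ fun l => ?_
  · rw [← inf_iSup_eq]
    exact le_inf le_rfl (le_top.trans (CoordData.iSup_basicOpen_X (Fin (m + 1)) A).ge)
  · rw [map_zero]
    obtain ⟨V, hV⟩ : ∃ V : (CohB1.ProjSpace m A).Opens, V = r ⁻¹ᵁ rchart n B i ⊓ rchart m A l :=
      ⟨_, rfl⟩
    have e1 : V ≤ r ⁻¹ᵁ rchart n B i := hV.le.trans inf_le_left
    have e2 : V ≤ rchart m A l := hV.le.trans inf_le_right
    obtain ⟨u, hu0⟩ : ∃ u, u = ores e2 (dh m A l (F i).1) := ⟨_, rfl⟩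
    have hu : IsUnit u := by
      have g1 := isGen_of_givenBy hr i e1
      have g2 : IsGen (u • res (Twist.twistProjSpace m A (d : ℤ)) (le_top : V ≤ ⊤) (gl (XP m d A l))) := by
        rw [hu0, ← res_gl_le]
        exact g1
      exact (isGen_res l e2).isUnit_of_smul g2
    have r3 : ∀ j, ores e2 (dh m A l (F j).1) = u * r.appLE (rchart n B i) V e1 (rat n B i j) := by
      intro j
      refine (isGen_res (d := d) l e2).ext ?_
      rw [← res_gl_le, mul_comm, mul_smul, hu0, ← res_gl_le]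
      exact res_of_givenBy hr i j e1
    -- the two ring homomorphisms
    let c : B →+* Γ(CohB1.ProjSpace m A, V) := CoordData.baseHom (r ≫ CohB1.ProjSpace.toSpec n B) V
    have hΦ : (r.appLE (rchart n B i) V e1).hom.comp (dh n B i) =
        MvPolynomial.eval₂Hom c (fun j => r.appLE (rchart n B i) V e1 (rat n B i j)) := by
      apply MvPolynomial.ringHom_ext
      · intro a
        rw [MvPolynomial.eval₂Hom_C, RingHom.comp_apply, dh_C]
        exact appLE_baseHom r (CohB1.ProjSpace.toSpec n B) e1 a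
      · intro j
        rw [MvPolynomial.eval₂Hom_X', RingHom.comp_apply, dh_X]
    have hΨ : ((ores e2).comp ((dh m A l).comp
        ((MvPolynomial.aeval (R := A) (fun j => (F j).1)).toRingHom.comp (MvPolynomial.map σ)))) =
        MvPolynomial.eval₂Hom c (fun j => u * r.appLE (rchart n B i) V e1 (rat n B i j)) := by
      apply MvPolynomial.ringHom_ext
      · intro a
        rw [MvPolynomial.eval₂Hom_C]
        simp only [RingHom.comp_apply, MvPolynomial.map_C, AlgHom.toRingHom_eq_coe, RingHom.coe_coe,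
          MvPolynomial.aeval_C, MvPolynomial.algebraMap_eq, dh_C]
        change ores e2 (CoordData.baseHom _ _ _) = CoordData.baseHom (r ≫ CohB1.ProjSpace.toSpec n B) V a
        rw [hw, baseHom_spec]
        exact RingHom.congr_fun (CoordData.baseHom_map _ e2) _
      · intro j
        rw [MvPolynomial.eval₂Hom_X']
        simp only [RingHom.comp_apply, MvPolynomial.map_X, AlgHom.toRingHom_eq_coe, RingHom.coe_coe,
          MvPolynomial.aeval_X]
        exact r3 j
    have h1 := RingHom.congr_fun hΨ P.1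
    have h2 := RingHom.congr_fun hΦ P.1
    have h3 := K442.PnLin.eval₂_smul c u
      (fun j => r.appLE (rchart n B i) V e1 (rat n B i j)) P.1
      ((MvPolynomial.mem_homogeneousSubmodule _ _).mp P.2)
    simp only [RingHom.comp_apply, AlgHom.toRingHom_eq_coe, RingHom.coe_coe, h0, map_zero] at h1
    have h4 : 0 = u ^ e * (r.appLE (rchart n B i) V e1).hom (dh n B i P.1) := by
      refine h1.trans (Eq.trans ?_ (congrArg (fun z => u ^ e * z) h2.symm))
      exact h3
    have h5 := (hu.pow e).mul_right_eq_zero.mp h4.symm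
    rw [dh_form] at h5
    subst hV
    exact h5

/-- The coordinates do not vanish simultaneously. -/
theorem iSup_of_givenBy (hr : GivenBy r (Twist.twistProjSpace m A (d : ℤ)) (fun j => gl (F j))) :
    ⨆ j, Df (F j) = ⊤ := by
  refine eq_top_iff.mpr ((iSup_preimage r).ge.trans ?_)
  refine iSup_mono fun i x hx => ?_
  obtain ⟨l, hl⟩ := Opens.mem_iSup.mp (iSup_rchart.ge (show x ∈ (⊤ : (CohB1.ProjSpace m A).Opens) from trivial))
  have hle : rchart m A l ⊓ r ⁻¹ᵁ rchart n B i ≤ rchart m A l := inf_le_left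
  have g1 := isGen_of_givenBy hr i (V := rchart m A l ⊓ r ⁻¹ᵁ rchart n B i) inf_le_right
  rw [res_gl_le (F i) l hle] at g1
  have g2 := (isGen_res (d := d) l hle).isUnit_of_smul g1
  refine (mem_basicOpen_dh (F i) l x hl).mp ?_
  have g3 : x ∈ (CohB1.ProjSpace m A).basicOpen (ores hle (dh m A l (F i).1)) := by
    rw [Scheme.basicOpen_of_isUnit _ g2]
    exact ⟨hl, hx⟩
  exact ((CohB1.ProjSpace m A).basicOpen_res _ _).le g3 |>.2

/-- Existence. -/
theorem exists_r (hcov : ⨆ j, Df (F j) = ⊤)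
    (q : CohB1.ProjSpace m A ⟶ Spec (CommRingCat.of B)) :
    ∃ r : CohB1.ProjSpace m A ⟶ CohB1.ProjSpace n B, r ≫ CohB1.ProjSpace.toSpec n B = q ∧
      GivenBy r (Twist.twistProjSpace m A (d : ℤ)) (fun j => gl (F j)) := by
  refine exists_givenBy q _ ?_
  refine eq_top_iff.mpr (hcov.ge.trans ?_)
  refine iSup_mono fun i => ?_
  refine (le_genLocus_iff _ _).mpr ?_
  rw [sec_homOf]
  exact isGen_gl _ le_rfl

/-- Base change. -/
theorem givenBy_pmap {C : Type u} [CommRing C] (μ : A →+* C)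
    (hr : GivenBy r (Twist.twistProjSpace m A (d : ℤ)) (fun j => gl (F j))) :
    GivenBy (pmap μ m ≫ r) (Twist.twistProjSpace m C (d : ℤ)) (fun j => gl (mapF μ (F j))) := by
  have hi : IsIso (Groth.Agent.Sga67.TwistPull.cmp (gmap μ m) (irrelevant_le μ m) (d : ℤ)) :=
    Groth.Agent.Sga67.TwistPull.isIso_cmp _ _ (Groth.Agent.Ega3B.ProjFrame.coveredByOne m A) _
  have h1 := (hr.comp (pmap μ m)).of_iso (@asIso _ _ _ _
    (Groth.Agent.Sga67.TwistPull.cmp (gmap μ m) (irrelevant_le μ m) (d : ℤ)) hi)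
  refine (iff_of_eq ?_).mp h1
  congr 1
  funext j
  refine (Groth.Agent.Sga67.TwistPull.cmp_pullSec (gmap μ m) (irrelevant_le μ m) (d : ℤ) ⊤
    (Twist.globalOf (CohB1.polyGrading m A) (F j))).trans ?_
  exact Groth.Agent.Sga67.TwistPull.secMap_globalOf _ _ (F j)

end van

end K484.FamVan
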