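import Groth.Agent.Fano.K714.RatDef
import Groth.Agent.Brauer.K442.PnLin
import Groth.Agent.Sga67.TwistPull
import Groth.Agent.Ega3B.ProjFrame
import Mathlib.Algebra.MvPolynomial.Funext

/-!
# Change of the parameter of a parametrised rational curve

* `K484.Repar.repar`: node REPAR of S16531 (`Groth.Agent.Fano.K51.PlanT.repar`).
-/

set_option autoImplicit false
universe u
open CategoryTheory CategoryTheory.Limits AlgebraicGeometry TopologicalSpace Opposite

namespace K484.Repar

open Groth.Agent.Fano.K714.Rat K442.PnLin Groth.Agent.Sga67.TwistPull K390.PnSec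
open Groth.Agent.Ega2.H295.PnUniq Groth.Agent.Ega2.H295.PnCoord

attribute [local instance] MvPolynomial.gradedAlgebra

theorem ker_comp_iso {X Z W : Scheme.{u}} (e : Z ≅ W) (i : W ⟶ X) [QuasiCompact i] :
    (e.hom ≫ i).ker = i.ker := by
  refine Scheme.IdealSheafData.ext (funext fun U => ?_)
  rw [Scheme.Hom.ker_apply, Scheme.Hom.ker_apply]
  ext a
  have h2 : ((e.hom ≫ i).app (U : X.Opens)).hom a =
      (e.hom.app (i ⁻¹ᵁ (U : X.Opens))).hom ((i.app (U : X.Opens)).hom a) := by
    rw [Scheme.Hom.comp_app]; rfl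
  rw [RingHom.mem_ker, RingHom.mem_ker, h2]
  have h1 : Function.Injective (e.hom.app (i ⁻¹ᵁ (U : X.Opens))).hom :=
    (ConcreteCategory.bijective_of_isIso (e.hom.app (i ⁻¹ᵁ (U : X.Opens)))).1
  exact map_eq_zero_iff _ h1

section

variable {n : ℕ} {K : Type u} [CommRing K]

/-- Linear substitutions pull back sections of `O(d)` as expected. -/
theorem givenBy_lin {N d : ℕ} {S : Type u} [CommRing S] (M M' : Matrix (Fin (n + 1)) (Fin (n + 1)) K)
    (h : M * M' = 1) (r : CohB1.ProjSpace n K ⟶ CohB1.ProjSpace N S)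
    (F : Fin (N + 1) → CohB1.polyGrading n K d)
    (hr : GivenBy r (Twist.twistProjSpace n K (d : ℤ)) (fun j =>
      (Twist.globalOf (CohB1.polyGrading n K) (F j) : Γ(Twist.twistProjSpace n K (d : ℤ), ⊤))))
    (F' : Fin (N + 1) → CohB1.polyGrading n K d) (hF : ∀ j, (F' j).1 = sub M (F j).1) :
    GivenBy (linHom M M' h ≫ r) (Twist.twistProjSpace n K (d : ℤ)) (fun j =>
      (Twist.globalOf (CohB1.polyGrading n K) (F' j) : Γ(Twist.twistProjSpace n K (d : ℤ), ⊤))) := by
  have hi : IsIso (cmp (grHom M) (Groth.Agent.Sga5.ProjSurj.irrelevant_le_map (degSurj M M' h)) (d : ℤ)) :=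
    isIso_cmp _ _ (Groth.Agent.Ega3B.ProjFrame.coveredByOne n K) _
  have h1 := (hr.comp (linHom M M' h)).of_iso (@asIso _ _ _ _ (cmp (grHom M)
    (Groth.Agent.Sga5.ProjSurj.irrelevant_le_map (degSurj M M' h)) (d : ℤ)) hi)
  refine (iff_of_eq ?_).mp h1
  congr 1
  funext j
  refine (cmp_pullSec (grHom M) (Groth.Agent.Sga5.ProjSurj.irrelevant_le_map (degSurj M M' h)) (d : ℤ) ⊤
    (Twist.globalOf (CohB1.polyGrading n K) (F j))).trans ?_
  refine (secMap_globalOf _ _ (F j)).trans ?_
  have h2 : (⟨grHom M (F j).1, (grHom M).map_mem (F j).2⟩ : CohB1.polyGrading n K d) = F' j :=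
    Subtype.ext (hF j).symm
  exact congrArg _ h2

end

/-- REPAR: change of the parameter. -/
theorem repar {k : Type u} [Field k] [Infinite k] (f : LefPen.Form 4 k 3) {d : ℕ} (_hd : 1 ≤ d)
    (c c' : Fin (d + 1) → Fin 5 → k) (γ : Matrix (Fin 2) (Fin 2) k) (hγ : γ.det ≠ 0)
    (h : ∀ s t : k, cpt c' s t = cpt c (γ 0 0 * s + γ 0 1 * t) (γ 1 0 * s + γ 1 1 * t))
    (i : CohB1.ProjSpace 1 k ⟶ Xf f) [IsClosedImmersion i] (hi : IsPar f d c i) :
    ∃ i' : CohB1.ProjSpace 1 k ⟶ Xf f, IsClosedImmersion i' ∧ IsPar f d c' i' ∧ i'.ker = i.ker := by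
  have hu : IsUnit γ.det := isUnit_iff_ne_zero.mpr hγ
  have e1 : γ.transpose * (γ⁻¹).transpose = 1 := by
    rw [← Matrix.transpose_mul, Matrix.nonsing_inv_mul _ hu, Matrix.transpose_one]
  have e2 : (γ⁻¹).transpose * γ.transpose = 1 := by
    rw [← Matrix.transpose_mul, Matrix.mul_nonsing_inv _ hu, Matrix.transpose_one]
  let G : CohB1.ProjSpace 1 k ≅ CohB1.ProjSpace 1 k := lin γ.transpose (γ⁻¹).transpose e1 e2
  refine ⟨G.hom ≫ i, inferInstance, ⟨?_, ?_⟩, ker_comp_iso G i⟩
  · rw [Category.assoc, hi.1]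
    exact linHom_toSpec _ _ e1
  · rw [Category.assoc]
    refine givenBy_lin γ.transpose (γ⁻¹).transpose e1 (i ≫ emb f) (fun j => bform c j) hi.2
      (fun j => bform c' j) fun j => ?_
    refine MvPolynomial.funext fun x => ?_
    rw [eval_bform, h]
    have h3 : MvPolynomial.eval x (sub γ.transpose (bform c j).1) =
        MvPolynomial.eval (fun l => ∑ m, γ.transpose m l * x m) (bform c j).1 := by
      generalize (bform c j).1 = P
      induction P using MvPolynomial.induction_on with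
      | C a => rw [sub_C, MvPolynomial.eval_C, MvPolynomial.eval_C]
      | add p q hp hq => rw [map_add, map_add, map_add, hp, hq]
      | mul_X p l hp =>
        rw [map_mul, map_mul, map_mul, hp, sub_X, MvPolynomial.eval_X, map_sum]
        simp only [map_mul, MvPolynomial.eval_C, MvPolynomial.eval_X]
    rw [h3, eval_bform]
    simp [Fin.sum_univ_two]

end K484.Repar
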